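import Groth.Agent.Lib.FppfDescSS5.SyzH
import Groth.Agent.Lib.PhCmp5.Ph
import Groth.Agent.S6687

/-!
# Sections of injective resolutions compute étale cohomology
-/

set_option autoImplicit false
set_option linter.style.haveILetI false
set_option linter.unusedSectionVars false
set_option backward.isDefEq.respectTransparency false
set_option backward.isDefEq.respectTransparency.types false

universe u

open CategoryTheory CategoryTheory.Limits AlgebraicGeometry Opposite Abelian
open Groth.Agent.CmpSit16 (Syz syzOf)
open Groth.Agent.CmpBig24 (εX)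
open Groth.Agent.FppfDescSS5 (cx cx_d secTop nonempty_homology_H)
open Groth.Agent.PhCmp5 (fromTors piJ alphaIso hsh_ph van_ph)

noncomputable section

namespace Groth.Agent.PhDescSS5

variable {Y : Scheme.{u}}

/-- Restriction of a sheaf to the small étale site of an object of the big site. -/
def res (T : Over Y) : HTop.AbPh Y ⥤ EtCoh.Ab T.left :=
  εX HPi5.etale_le_ph Y ⋙ BigSite.pullBig Scheme.etalePrecoverage T.hom AddCommGrpCat.{u + 1} ⋙
    BigSite.resEt Scheme.etalePrecoverage T.left

/-- Sections at an object. -/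
abbrev sec (T : Over Y) : HTop.AbPh Y ⥤ AddCommGrpCat.{u + 1} :=
  sheafToPresheaf _ _ ⋙ (evaluation _ AddCommGrpCat.{u + 1}).obj (op T)

/-- The object as the image of the top object. -/
def topIso (T : Over Y) : (Over.map T.hom).obj ((EtFppf.a T.left).obj (EtCoh.top T.left)) ≅ T :=
  Over.isoMk (Iso.refl _) (by
    show 𝟙 T.left ≫ T.hom = 𝟙 T.left ≫ T.hom
    rfl)

/-- Sections at an object are global sections of the restriction. -/
def secIso (T : Over Y) : sec T ≅ res T ⋙ secTop T.left :=
  NatIso.ofComponents (fun G => G.obj.mapIso (topIso T).op) fun {G G'} φ => (φ.hom.naturality (topIso T).op.hom).symm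

/-- The pullback to the big fppf site. -/
abbrev pullSheaf (F : EtCoh.Ab Y) : HTop.AbPh Y := (piJ hsh_ph Y).obj F

theorem nonempty_res_iso (T : Over Y) (F : EtCoh.Ab Y) :
    Nonempty ((res T).obj (pullSheaf F) ≅ (EtCoh.pull T.hom).obj F) := by
  let f := T.hom
  let e1 : BigSite.pushBig Scheme.etalePrecoverage f AddCommGrpCat.{u + 1} ⋙ BigSite.resEt Scheme.etalePrecoverage Y ≅
      BigSite.resEt Scheme.etalePrecoverage T.left ⋙ EtCoh.push f :=
    SmallBigBC16.e1 AddCommGrpCat.{u + 1} f
  let e2 := Adjunction.leftAdjointUniq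
    ((BigSite.piEtAdj Scheme.etalePrecoverage Y).comp (BigSite.bigAdj Scheme.etalePrecoverage f AddCommGrpCat.{u + 1}))
    (((EtCoh.pullPushAdj f).comp (BigSite.piEtAdj Scheme.etalePrecoverage T.left)).ofNatIsoRight e1.symm)
  haveI := (Groth.Agent.S6184.result T.left).2 ((EtCoh.pull f).obj F)
  exact ⟨(BigSite.resEt Scheme.etalePrecoverage T.left).mapIso
    ((BigSite.pullBig Scheme.etalePrecoverage f AddCommGrpCat.{u + 1}).mapIso
      ((alphaIso HPi5.etale_le_ph hsh_ph Y).app F) ≪≫ e2.app F) ≪≫
    (asIso ((BigSite.piEtAdj Scheme.etalePrecoverage T.left).unit.app ((EtCoh.pull f).obj F))).symm⟩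

variable (F : EtCoh.Ab Y)

/-- The chosen syzygies. -/
def syz : Syz (HTop.AbPh Y) := syzOf (pullSheaf F)

theorem syz_S_zero : (syz F).S 0 = pullSheaf F := rfl

variable (hBC : PBC24.ProperBC.{u}) (hF : EtCoh.IsTorsion F)

include hF in
theorem fromEt_syz : fromTors Y ((εX HPi5.etale_le_ph Y).obj ((syz F).S 0)) :=
  ⟨F, hF, ⟨((alphaIso HPi5.etale_le_ph hsh_ph Y).app F).symm⟩⟩

include hBC hF in
theorem shortExact_eps (j : ℕ) : (((syz F).sc j).map (εX HPi5.etale_le_ph Y)).ShortExact :=
  CmpBig24.shortExact_εX (van_ph hBC (j + 1))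
    (syz F) (fromEt_syz F hF) j (Nat.lt_succ_self j)

include hBC hF in
/-- The syzygies restricted to an object. -/
def resSyz (T : Over Y) : Syz (EtCoh.Ab T.left) where
  S j := (res T).obj ((syz F).S j)
  I j := (res T).obj ((syz F).I j)
  i j := (res T).map ((syz F).i j)
  p j := (res T).map ((syz F).p j)
  w j := by
    haveI : (BigSite.resEt Scheme.etalePrecoverage T.left).Additive :=
      Functor.additive_of_preserves_binary_products _
    haveI : (BigSite.pullBig Scheme.etalePrecoverage T.hom AddCommGrpCat.{u + 1}).Additive :=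
      Functor.additive_of_preserves_binary_products _
    show (BigSite.resEt _ _).map ((BigSite.pullBig _ _ _).map ((εX HPi5.etale_le_ph Y).map _)) ≫
      (BigSite.resEt _ _).map ((BigSite.pullBig _ _ _).map ((εX HPi5.etale_le_ph Y).map _)) = 0
    rw [← Functor.map_comp, ← Functor.map_comp, ← Functor.map_comp, (syz F).w, Functor.map_zero,
      Functor.map_zero, Functor.map_zero]
  inj j := by
    haveI := CmpBig24.injective_εA (CmpBig24.over_le HPi5.etale_le_ph Y) _ ((syz F).inj j)
    haveI := BigSite16.injective_pullBig T.hom Scheme.etalePrecoverage ((εX HPi5.etale_le_ph Y).obj ((syz F).I j))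
    exact BigSite16.injective_resEt Scheme.etalePrecoverage
      ((BigSite.pullBig Scheme.etalePrecoverage T.hom AddCommGrpCat.{u + 1}).obj ((εX HPi5.etale_le_ph Y).obj ((syz F).I j)))
  shortExact j := by
    haveI : (BigSite.resEt Scheme.etalePrecoverage T.left).Additive :=
      Functor.additive_of_preserves_binary_products _
    haveI : (BigSite.pullBig Scheme.etalePrecoverage T.hom AddCommGrpCat.{u + 1}).Additive :=
      Functor.additive_of_preserves_binary_products _
    exact ((shortExact_eps F hBC hF j).map_of_exact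
      (BigSite.pullBig Scheme.etalePrecoverage T.hom AddCommGrpCat.{u + 1})).map_of_exact
      (BigSite.resEt Scheme.etalePrecoverage T.left)

/-- The complex of sections at an object. -/
abbrev secCx (T : Over Y) : CochainComplex AddCommGrpCat.{u + 1} ℕ :=
  ((sec T).mapHomologicalComplex _).obj (cx (syz F))

include hBC hF in
/-- The complex of sections at an object computes étale cohomology. -/
theorem nonempty_homology_secCx (T : Over Y) (n : ℕ) :
    Nonempty ((secCx F T).homology n ≅ AddCommGrpCat.of (EtCoh.H T.left ((EtCoh.pull T.hom).obj F) n)) := by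
  obtain ⟨e⟩ := nonempty_homology_H (resSyz F hBC hF T) n
  obtain ⟨a⟩ := nonempty_res_iso T F
  let k : secCx F T ≅ ((secTop T.left).mapHomologicalComplex _).obj (cx (resSyz F hBC hF T)) :=
    HomologicalComplex.Hom.isoOfComponents (fun q => (secIso T).app ((syz F).I q)) (fun i j hij => by
      obtain rfl : i + 1 = j := hij
      show ((secIso T).app _).hom ≫ (secTop T.left).map ((cx (resSyz F hBC hF T)).d i (i + 1)) =
        (sec T).map ((cx (syz F)).d i (i + 1)) ≫ ((secIso T).app _).hom
      rw [cx_d, cx_d]
      erw [← Functor.map_comp (res T)]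
      exact ((secIso T).hom.naturality ((syz F).p i ≫ (syz F).i (i + 1))).symm)
  exact ⟨(HomologicalComplex.homologyFunctor _ _ n).mapIso k ≪≫ e ≪≫
    (Sheaf.functorH _ n).mapIso a⟩

end Groth.Agent.PhDescSS5

end
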