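import Groth.Agent.Lib.PhDescSS5.Cols
import Groth.Agent.Lib.HTop26.Site
import Groth.Agent.Lib.FppfDescSS5.Main
import Groth.Agent.Lib.Cech24.Cocycle
import Groth.Agent.Lib.DblCx16.SpecSeq
import Groth.Agent.Lib.DblCx16.Aug
import Groth.Agent.Lib.EtDesc24.PullH
import Groth.Prelude.Def_SpSeq

/-!
# The descent spectral sequence of an proper covering
-/

set_option autoImplicit false
set_option linter.style.haveILetI false
set_option linter.unusedSectionVars false
set_option backward.isDefEq.respectTransparency false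
set_option backward.isDefEq.respectTransparency.types false

set_option linter.unusedVariables false

universe u

open CategoryTheory CategoryTheory.Limits AlgebraicGeometry Opposite Abelian
open Groth.Agent.Cech24 Groth.Agent.DblCx16

noncomputable section

namespace Groth.Agent.PhDescSS5

open Groth.Agent.FppfDescSS5 (cx cx_d secTop nonempty_homology_H bse fam idx pw wideProj pwIso)

variable {X Y : Scheme.{u}} (f : X ⟶ Y)


variable [IsProper f] [Surjective f]

theorem mem_K : Sieve.ofArrows (fun _ : PUnit.{u + 1} => X) (fun _ => f) ∈ HTop.phTopology Y :=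
  Precoverage.generate_mem_toGrothendieck ((HTop.presieve₀_mem_phPrecoverage_iff
    (⟨PUnit.{u + 1}, fun _ => X, fun _ => f⟩ : PreZeroHypercover.{u} Y)).2
    (HTop26.isPhCover_of_proper (fun _ : PUnit.{u + 1} => f) fun t => ⟨PUnit.unit, f.surjective t⟩))

theorem cover_mem :
    Sieve.ofArrows (fun _ : PUnit.{u + 2} => (fam f PUnit.unit).left) (fun _ => (fam f PUnit.unit).hom) ∈
      HTop.Jph Y (bse Y) := by
  rw [GrothendieckTopology.mem_over_iff]
  refine GrothendieckTopology.superset_covering _ ?_ (mem_K f)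
  rintro W a ⟨W₀, b, e, ⟨⟩, rfl⟩
  rw [Sieve.overEquiv_iff]
  exact ⟨Over.mk f, Over.homMk b (Category.comp_id _).symm, (fam f PUnit.unit).hom, ⟨PUnit.unit⟩,
    Over.OverMorphism.ext rfl⟩

variable (F : EtCoh.Ab Y)

/-- The presheaves of the resolution. -/
abbrev term (q : ℕ) : (Over Y)ᵒᵖ ⥤ AddCommGrpCat.{u + 1} := ((cx (syz F)).X q).obj

theorem injective_term (q : ℕ) : Injective (term F q) :=
  haveI : Injective ((cx (syz F)).X q) := (syz F).inj q
  (sheafificationAdjunction (HTop.Jph Y) AddCommGrpCat.{u + 1}).map_injective ((cx (syz F)).X q) inferInstance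

/-- The Čech differential, as a homomorphism. -/
def dC (q n : ℕ) : (∀ a : Fin (n + 1) → PUnit.{u + 2}, (term F q).obj (op (pw f n a))) →+
    ∀ a : Fin (n + 2) → PUnit.{u + 2}, (term F q).obj (op (pw f (n + 1) a)) :=
  AddMonoidHom.mk' (fun c => dCochain (fam f) (term F q) c) fun c c' => funext fun a => by
    simp only [dCochain, Pi.add_apply, map_add, zsmul_add]
    rw [Finset.sum_add_distrib]

/-- The augmentation. -/
def aug (q : ℕ) : (term F q).obj (op (bse Y)) →+
    ∀ a : Fin 1 → PUnit.{u + 2}, (term F q).obj (op (pw f 0 a)) :=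
  AddMonoidHom.mk' (fun x a => (term F q).map (pr (fam f) a).hom.op x) fun x y => funext fun a => map_add _ _ _

theorem dC_aug (q : ℕ) (x : (term F q).obj (op (bse Y))) : dC f F q 0 (aug f F q x) = 0 := by
  funext a
  show dCochain (fam f) (term F q) (fun b => (term F q).map (pr (fam f) b).hom.op x) a = 0
  have h : ∀ i : Fin 2, (term F q).map (prFace (fam f) a i).left.op
      ((term F q).map (pr (fam f) (a ∘ i.succAbove)).hom.op x) = (term F q).map (pr (fam f) a).hom.op x := fun i => by
    rw [CmpBig24.map_map, Over.w]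
  rw [dCochain, Finset.sum_congr rfl fun i _ => congrArg _ (h i), Fin.sum_univ_two]
  simp

/-- The terms of the double complex. -/
def dX : ℕ → ℕ → AddCommGrpCat.{u + 1}
  | 0, q => (term F q).obj (op (bse Y))
  | p + 1, q => AddCommGrpCat.of (∀ a : Fin (p + 1) → PUnit.{u + 2}, (term F q).obj (op (pw f p a)))

/-- The horizontal maps. -/
def dH : ∀ p q, dX f F p q →+ dX f F (p + 1) q
  | 0, q => aug f F q
  | p + 1, q => dC f F q p

/-- The vertical maps. -/
def dV : ∀ p q, dX f F p q →+ dX f F p (q + 1)
  | 0, q => (((cx (syz F)).d q (q + 1)).hom.app _).hom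
  | p + 1, q => AddMonoidHom.mk'
      (fun (c : ∀ a : Fin (p + 1) → PUnit.{u + 2}, (term F q).obj (op (pw f p a))) a =>
        ((cx (syz F)).d q (q + 1)).hom.app _ (c a)) fun c c' => funext fun a => map_add _ _ _

theorem app_dd (q : ℕ) (T : Over Y) (x : (term F q).obj (op T)) :
    ((cx (syz F)).d (q + 1) (q + 2)).hom.app (op T) (((cx (syz F)).d q (q + 1)).hom.app (op T) x) = 0 := by
  rw [← ConcreteCategory.comp_apply]
  exact ConcreteCategory.congr_hom
    (NatTrans.congr_app (congrArg (sheafToPresheaf _ _).map ((cx (syz F)).d_comp_d q (q + 1) (q + 2))) (op T)) x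

/-- The double complex of the covering. -/
def dbl : Dbl.{u + 1} where
  X := dX f F
  h := dH f F
  v := dV f F
  hh p q x := by
    cases p with
    | zero => exact dC_aug f F q x
    | succ p => exact dCochain_dCochain (fam f) (term F q) x
  vv p q x := by
    cases p with
    | zero => exact app_dd F q _ x
    | succ p => exact funext fun a => app_dd F q _ (x a)
  hv p q x := by
    cases p with
    | zero => exact funext fun a =>
        (NatTrans.naturality_apply ((cx (syz F)).d q (q + 1)).hom (pr (fam f) a).hom.op x).symm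
    | succ p => exact funext fun a =>
        (dCochain_nat (fam f) (term F q) ((cx (syz F)).d q (q + 1)).hom x a).symm

/-- The component of the cover into a product with one factor. -/
abbrev one (a : Fin 1 → PUnit.{u + 2}) : fam f PUnit.unit ⟶ pr (fam f) a :=
  Pi.lift (f := fam f ∘ a) fun _ => 𝟙 _

theorem π_one (a : Fin 1 → PUnit.{u + 2}) (k : Fin 1) :
    (Pi.π (fam f ∘ a) k) ≫ one f a = 𝟙 (pr (fam f) a) := by
  obtain rfl : k = 0 := Fin.fin_one_eq_zero k
  refine Pi.hom_ext _ _ fun j => ?_
  obtain rfl : j = 0 := Fin.fin_one_eq_zero j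
  rw [Category.assoc, Pi.lift_π]
  exact (Category.comp_id _).trans (Category.id_comp _).symm

theorem exists_aug (q : ℕ) (c : ∀ a : Fin 1 → PUnit.{u + 2}, (term F q).obj (op (pw f 0 a)))
    (hc : dC f F q 0 c = 0) : ∃ x, aug f F q x = c := by
  let I := term F q
  let a₀ : Fin 1 → PUnit.{u + 2} := idx 0
  let s : I.obj (op (fam f PUnit.unit).left) := I.map (one f a₀).left.op (c a₀)
  have hsh : Presieve.IsSheaf (HTop.Jph Y) (I ⋙ forget AddCommGrpCat.{u + 1}) :=
    (isSheaf_iff_isSheaf_of_type _ _).1
      ((Presheaf.isSheaf_iff_isSheaf_forget _ _ (forget AddCommGrpCat.{u + 1})).1 ((cx (syz F)).X q).property)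
  have hS := (Presieve.isSheafFor_iff_generate _).2 (hsh _ (cover_mem f))
  obtain ⟨t, ht, -⟩ := (Presieve.isSheafFor_arrows_iff _ _).1 hS (fun _ => s) (by
    rintro i j W g₁ g₂ hg
    let b : Fin 2 → PUnit.{u + 2} := idx 1
    let σ : Over.mk (g₁ ≫ (fam f PUnit.unit).hom) ⟶ pr (fam f) b :=
      Pi.lift (f := fam f ∘ b) (Fin.cons (Over.homMk g₁) (Fin.cons (Over.homMk g₂ hg.symm) (fun k => k.elim0)))
    have e : ∀ i : Fin 2, (σ ≫ prFace (fam f) b i).left =
        (σ ≫ Pi.π (fam f ∘ b) (i.succAbove 0)).left ≫ (one f a₀).left := fun i => by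
      rw [← Over.comp_left]
      refine congrArg Over.Hom.left ?_
      generalize σ = τ
      refine Pi.hom_ext _ _ fun k => ?_
      obtain rfl : k = 0 := Fin.fin_one_eq_zero k
      rw [Category.assoc, Category.assoc, Pi.lift_π, Pi.lift_π]
      exact congrArg (τ ≫ ·) (Category.comp_id (Pi.π (fam f ∘ b) (i.succAbove 0))).symm
    have hd := congrArg (I.map σ.left.op) (congrFun hc b)
    rw [Pi.zero_apply, map_zero] at hd
    change I.map σ.left.op (dCochain (fam f) I c b) = 0 at hd
    rw [dCochain, map_sum, Fin.sum_univ_two] at hd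
    simp only [Fin.val_zero, Fin.val_one, pow_zero, pow_one, one_zsmul, neg_zsmul, map_neg] at hd
    rw [CmpBig24.map_map, CmpBig24.map_map, ← Over.comp_left, ← Over.comp_left, e 0, e 1] at hd
    have e0 : (σ ≫ Pi.π (fam f ∘ b) ((0 : Fin 2).succAbove 0)).left = g₂ :=
      congrArg Over.Hom.left (Pi.lift_π (f := fam f ∘ b) _ _)
    have e1 : (σ ≫ Pi.π (fam f ∘ b) ((1 : Fin 2).succAbove 0)).left = g₁ :=
      congrArg Over.Hom.left (Pi.lift_π (f := fam f ∘ b) _ _)
    rw [e0, e1] at hd
    show I.map g₁.op (I.map (one f a₀).left.op (c a₀)) = I.map g₂.op (I.map (one f a₀).left.op (c a₀))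
    rw [CmpBig24.map_map, CmpBig24.map_map]
    exact (add_neg_eq_zero.1 hd).symm)
  refine ⟨t, funext fun a => ?_⟩
  obtain rfl : a = a₀ := funext fun _ => rfl
  have ht' : I.map (fam f PUnit.unit).hom.op t = s := ht PUnit.unit
  show I.map (pr (fam f) a₀).hom.op t = c a₀
  rw [← Over.w (Pi.π (fam f ∘ a₀) 0), ← CmpBig24.map_map I]
  refine (congrArg (I.map (Pi.π (fam f ∘ a₀) 0).left.op) ht').trans ?_
  refine (CmpBig24.map_map I _ _ _).trans ?_
  refine (CmpBig24.map_congr' I (b := 𝟙 _) ?_ _).trans (by simp)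
  exact (congrArg Over.Hom.left (π_one f a₀ 0) :)

theorem aug_injective (q : ℕ) (x : (term F q).obj (op (bse Y))) (hx : aug f F q x = 0) : x = 0 := by
  refine CmpBig24.sep (G := (cx (syz F)).X q) (cover_mem f) x 0 fun W g hg => ?_
  obtain ⟨W₀, b, e, ⟨⟩, rfl⟩ := hg
  rw [map_zero]
  have h : (term F q).map (fam f PUnit.unit).hom.op x = 0 := by
    rw [← Over.w (one f (idx 0)), ← CmpBig24.map_map (term F q)]
    exact (congrArg _ (congrFun hx (idx 0))).trans (map_zero _)
  show (term F q).map (b ≫ (fam f PUnit.unit).hom).op x = 0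
  rw [← CmpBig24.map_map (term F q), h, map_zero]

theorem totExact (n : ℤ) : TotExact (dbl f F) n := by
  refine totExact_of_rows (dbl f F) (fun q x hx => aug_injective f F q x hx) (fun p q x hx => ?_) n
  cases p with
  | zero => exact exists_aug f F q x hx
  | succ p =>
    haveI := injective_term F q
    exact exists_cochain_of_cocycle (fam f) (term F q) x hx

/-- The column zero. -/
def colZeroIso : col (dbl f F) 0 ≅ secCx F (bse Y) :=
  HomologicalComplex.Hom.isoOfComponents (fun _ => Iso.refl _) (fun i j hij => by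
    obtain rfl : i + 1 = j := hij
    refine ConcreteCategory.hom_ext _ _ fun x => ?_
    exact (col_d (dbl f F) 0 i x).symm)

/-- The further columns. -/
def colIso (p : ℕ) : col (shift (dbl f F)) p ≅ secCx F (pw f p (idx p)) :=
  HomologicalComplex.Hom.isoOfComponents
    (fun q => AddEquiv.toAddCommGrpIso (X := (shift (dbl f F)).X p q) (Y := (secCx F (pw f p (idx p))).X q)
      { toFun := fun (c : ∀ a : Fin (p + 1) → PUnit.{u + 2}, (term F q).obj (op (pw f p a))) => c (idx p)
        invFun := fun x a => (show a = idx p from funext fun _ => rfl) ▸ x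
        left_inv := fun c => funext fun a => by
          obtain rfl : a = idx p := funext fun _ => rfl
          rfl
        right_inv := fun x => rfl
        map_add' := fun _ _ => rfl })
    (fun i j hij => by
      obtain rfl : i + 1 = j := hij
      refine ConcreteCategory.hom_ext _ _ fun x => ?_
      exact (congrFun (col_d (shift (dbl f F)) p i x) (idx p)).symm)

/-- The descent spectral sequence. -/
theorem exists_descent_ss (hBC : PBC24.ProperBC.{u}) (hF : EtCoh.IsTorsion F) :
    ∃ (E : CohomologicalSpectralSequence AddCommGrpCat.{u + 1} 1)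
      (a : SpSeq.Abutment E (fun n : ℤ =>
        if 0 ≤ n then AddCommGrpCat.of (EtCoh.H Y F n.toNat) else AddCommGrpCat.of PUnit.{u + 2})),
      (∀ n, a.IsFinite n) ∧ SpSeq.IsBounded E ∧
      ∀ p q : ℤ, Nonempty ((E.page 1 le_rfl).X (p, q) ≅
        (if 0 ≤ p ∧ 0 ≤ q then
          AddCommGrpCat.of (EtCoh.H (widePullback Y (fun _ : Fin (p.toNat + 1) => X) (fun _ => f))
            ((EtCoh.pull (WidePullback.base (fun _ : Fin (p.toNat + 1) => f) :
              widePullback Y (fun _ : Fin (p.toNat + 1) => X) (fun _ => f) ⟶ Y)).obj F) q.toNat)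
         else AddCommGrpCat.of PUnit.{u + 2})) := by
  refine exists_ss (shift (dbl f F)) _ (fun n => ?_) _ (fun p q => ?_) ?_
  · by_cases hn : 0 ≤ n
    · obtain ⟨k, rfl⟩ := Int.eq_ofNat_of_zero_le hn
      rw [if_pos hn]
      exact ⟨(nonempty_homology_col_iso (dbl f F) (totExact f F) k).some.symm ≪≫
        (HomologicalComplex.homologyFunctor _ _ k).mapIso (colZeroIso f F) ≪≫
        (nonempty_homology_secCx F hBC hF (bse Y) k).some ≪≫
        (Sheaf.functorH _ k).mapIso ((EtDesc24.pullId Y).app F)⟩
    · rw [if_neg hn]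
      refine ⟨IsZero.iso (ShortComplex.isZero_homology_of_isZero_X₂ _ ?_)
        (AddCommGrpCat.isZero_of_subsingleton _)⟩
      haveI : IsEmpty (Idx n) := ⟨fun i => hn (by have := i.2; omega)⟩
      exact @AddCommGrpCat.isZero_of_subsingleton _ (inferInstanceAs (Subsingleton (T (shift (dbl f F)) n)))
  · rw [if_pos ⟨Int.natCast_nonneg p, Int.natCast_nonneg q⟩]
    exact ⟨(HomologicalComplex.homologyFunctor _ _ q).mapIso (colIso f F p) ≪≫
      (HomologicalComplex.homologyFunctor _ _ q).mapIso
        ((NatIso.mapHomologicalComplex (NatIso.ofComponents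
          (fun G : HTop.AbPh Y => G.obj.mapIso (pwIso f p (idx p)).symm.op)
          (fun φ => (φ.hom.naturality (pwIso f p (idx p)).symm.op.hom).symm) :
            sec (pw f p (idx p)) ≅ sec (Over.mk (WidePullback.base (fun _ : Fin (p + 1) => f) :
              widePullback Y (fun _ : Fin (p + 1) => X) (fun _ => f) ⟶ Y))) _).app (cx (syz F))) ≪≫
      (nonempty_homology_secCx F hBC hF _ q).some⟩
  · intro p q h
    rw [if_neg (by omega)]
    exact AddCommGrpCat.isZero_of_subsingleton _

end Groth.Agent.PhDescSS5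

end
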